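import Cfsg.Agent.H873.RG.Defs

/-!
# S3509: covers with a member whose centralizer has a component (helper182)

`exists_pair` : `f : C(x i) → P` with `C_{C(x i)}(f⁻¹ Q) ≤ ⟨x i⟩`, `Q ≤ P` simple with regular cycles and normalised by the
image of `f`: for every prime `s` dividing `|Q|` there is `m ∈ C(x i)` of order `s` such that `{x i, m}` is a cover.
-/

set_option autoImplicit false

namespace Cfsg.Agent.H182.RG

open Cfsg Subgroup MulAction Cfsg.Agent.H106.RC
open scoped commutatorElement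

theorem perfect_of_simple {Q : Type*} [Group Q] (hs : IsSimpleGroup Q) (hn : ¬ IsMulCommutative Q) :
    commutator Q = ⊤ := by
  rcases (inferInstance : (commutator Q).Normal).eq_bot_or_eq_top with h | h
  · exfalso
    apply hn
    refine ⟨⟨fun a b => ?_⟩⟩
    have h1 : ⁅a, b⁆ ∈ commutator Q := commutator_mem_commutator (mem_top a) (mem_top b)
    rw [h, mem_bot] at h1
    exact commutatorElement_eq_one_iff_mul_comm.1 h1
  · exact h

theorem commutator_simple {P : Type*} [Group P] (Q : Subgroup P) (hs : IsSimpleGroup Q) (hn : ¬ IsMulCommutative Q) :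
    ⁅Q, Q⁆ = Q := by
  have h2 := map_subtype_commutator Q
  rw [perfect_of_simple hs hn, ← MonoidHom.range_eq_map, range_subtype] at h2
  exact h2.symm

/-- **pairs from a component of `C(x i)`** -/
theorem exists_pair {L Ω ι : Type} [Group L] [Finite L] [Finite ι] [MulAction L Ω] {x : ι → L} {r : ι → ℕ}
    (hx : PF x r) (hc : Cov Ω x) (i : ι) {P : Type} [Group P] (f : ↥(centralizer ({x i} : Set L)) →* P)
    (Q : Subgroup P) (hs : IsSimpleGroup Q) (hn : ¬ IsMulCommutative Q) (hRC : RC Q) (hQ : ∀ q ∈ Q, ∃ g, f g = q)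
    (hQn : ∀ g, ∀ q ∈ Q, f g * q * (f g)⁻¹ ∈ Q)
    (hker : ∀ g, (∀ q ∈ Q, f g * q = q * f g) → (g : L) ∈ zpowers (x i)) {s : ℕ} (hsp : s.Prime)
    (hsQ : s ∣ Nat.card Q) :
    ∃ m : L, orderOf m = s ∧ m * x i = x i * m ∧ ∀ ω : Ω, x i • ω = ω ∨ m • ω = ω := by
  have hsf : Fact s.Prime := ⟨hsp⟩
  have hmul : ∀ g : ↥(centralizer ({x i} : Set L)), (g : L) * x i = x i * g := fun g =>
    mem_centralizer_singleton_iff.1 g.2
  -- the kernel is central
  have hcen : ∀ k c : ↥(centralizer ({x i} : Set L)), f k = 1 → k * c = c * k := by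
    intro k c hk
    obtain ⟨j, hj⟩ := hker k (fun q _ => by rw [hk, one_mul, mul_one])
    apply Subtype.ext
    show (k : L) * c = c * k
    have hj' : x i ^ j = (k : L) := hj
    rw [← hj']
    exact ((show Commute (c : L) (x i) from hmul c).zpow_right j).eq.symm
  let M1 : Subgroup ↥(centralizer ({x i} : Set L)) := Q.comap f
  have hM1n : M1.Normal := ⟨fun m hm g => by
    show f (g * m * g⁻¹) ∈ Q
    rw [map_mul, map_mul, map_inv]
    exact hQn g _ hm⟩
  have hM1 : M1.map f = Q := by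
    apply le_antisymm
    · rintro _ ⟨m, hm, rfl⟩
      exact hm
    · intro q hq
      obtain ⟨g, rfl⟩ := hQ q hq
      exact ⟨g, hq, rfl⟩
  let M0 : Subgroup ↥(centralizer ({x i} : Set L)) := ⁅M1, M1⁆
  have hM0n : M0.Normal := inferInstance
  have hM0 : M0.map f = Q := by
    rw [map_commutator, hM1, commutator_simple Q hs hn]
  have hM0p : ⁅M0, M0⁆ = M0 := by
    apply le_antisymm (commutator_le_left M0 M0)
    show ⁅M1, M1⁆ ≤ _
    rw [commutator_le]
    intro a ha b hb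
    have key : ∀ c ∈ M1, ∃ c0 ∈ M0, ∃ k, f k = 1 ∧ c = c0 * k := by
      intro c hc
      have h1 : f c ∈ M0.map f := by rw [hM0]; exact hc
      obtain ⟨c0, hc0, h2⟩ := h1
      exact ⟨c0, hc0, c0⁻¹ * c, by rw [map_mul, map_inv, h2, inv_mul_cancel], by group⟩
    obtain ⟨a0, ha0, k, hk, rfl⟩ := key a ha
    obtain ⟨b0, hb0, l, hl, rfl⟩ := key b hb
    have e1 : ⁅a0 * k, b0 * l⁆ = ⁅a0, b0⁆ := by
      rw [commutatorElement_def, commutatorElement_def]
      calc a0 * k * (b0 * l) * (a0 * k)⁻¹ * (b0 * l)⁻¹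
          = a0 * (k * (b0 * l * k⁻¹)) * a0⁻¹ * (l⁻¹ * b0⁻¹) := by group
        _ = a0 * (b0 * l * k⁻¹ * k) * a0⁻¹ * (l⁻¹ * b0⁻¹) := by rw [hcen k _ hk]
        _ = a0 * b0 * (l * (a0⁻¹ * l⁻¹)) * b0⁻¹ := by group
        _ = a0 * b0 * (a0⁻¹ * l⁻¹ * l) * b0⁻¹ := by rw [hcen l _ hl]
        _ = a0 * b0 * a0⁻¹ * b0⁻¹ := by group
    rw [e1]
    exact commutator_mem_commutator ha0 hb0
  let M : Subgroup L := M0.map (centralizer ({x i} : Set L)).subtype
  have hMp : ⁅M, M⁆ = M := by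
    show ⁅M0.map _, M0.map _⁆ = _
    rw [← map_commutator, hM0p]
  let e0 : M0 ≃* M := M0.equivMapOfInjective _ (subtype_injective _)
  have he0 : ∀ c : M0, ((e0 c : M) : L) = ((c : ↥(centralizer ({x i} : Set L))) : L) := fun c => rfl
  let f0 : M0 →* Q := (f.comp M0.subtype).codRestrict Q fun c => by
    have h1 : f (c : ↥(centralizer ({x i} : Set L))) ∈ M0.map f := ⟨_, c.2, rfl⟩
    rw [hM0] at h1
    exact h1
  have hf0 : ∀ c : M0, ((f0 c : Q) : P) = f (c : ↥(centralizer ({x i} : Set L))) := fun c => rfl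
  have hf0s : Function.Surjective f0 := by
    rintro ⟨q, hq⟩
    rw [← hM0] at hq
    obtain ⟨c, hc, hcq⟩ := hq
    exact ⟨⟨c, hc⟩, Subtype.ext hcq⟩
  let π : M →* Q := f0.comp e0.symm.toMonoidHom
  have hπ : ∀ c : M0, π (e0 c) = f0 c := fun c => by
    show f0 (e0.symm (e0 c)) = f0 c
    rw [MulEquiv.symm_apply_apply]
  have hπs : Function.Surjective π := hf0s.comp e0.symm.surjective
  have hπk : π.ker ≤ center M := by
    intro m hm
    obtain ⟨c, rfl⟩ := e0.surjective m
    rw [MonoidHom.mem_ker, hπ] at hm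
    have h1 : f (c : ↥(centralizer ({x i} : Set L))) = 1 := by rw [← hf0, hm]; rfl
    rw [mem_center_iff]
    intro m'
    obtain ⟨c', rfl⟩ := e0.surjective m'
    rw [← map_mul, ← map_mul]
    congr 1
    exact Subtype.ext (hcen _ _ h1).symm
  have hnorm : ∀ j, x j ∈ normalizer (M : Set L) := by
    intro j
    refine mem_normalizer_fintype ?_
    rintro _ ⟨c, hc, rfl⟩
    exact ⟨⟨x j, mem_centralizer_singleton_iff.2 (hx.comm j i)⟩ * c *
      (⟨x j, mem_centralizer_singleton_iff.2 (hx.comm j i)⟩ : ↥(centralizer ({x i} : Set L)))⁻¹,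
      hM0n.conj_mem c hc _, rfl⟩
  have main : ∀ ω : Ω, M ≤ stabilizer L ω ∨ x i • ω = ω := by
    intro ω
    rcases mrule_RC hs hn x r hx.prime hx.inj hx.pow hx.comm M hMp π hπs hπk hnorm hRC ω (fun m _ => by
      obtain ⟨j, hj⟩ := hc (m • ω)
      exact ⟨j, hj⟩) with h1 | ⟨j, hj, hjω⟩
    · exact Or.inl h1
    · right
      have h2 : x j ∈ zpowers (x i) := by
        refine hker ⟨x j, mem_centralizer_singleton_iff.2 (hx.comm j i)⟩ fun q hq => ?_
        rw [← hM0] at hq
        obtain ⟨c, hc, rfl⟩ := hq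
        rw [← map_mul, ← map_mul]
        congr 1
        exact Subtype.ext (hj _ ⟨c, hc, rfl⟩)
      have hi' : Fact (r i).Prime := ⟨hx.prime i⟩
      have hj' : Fact (r j).Prime := ⟨hx.prime j⟩
      have h3 := orderOf_dvd_of_mem_zpowers h2
      rw [orderOf_eq_prime (hx.pow i) (hx.ne i), orderOf_eq_prime (hx.pow j) (hx.ne j)] at h3
      rw [hx.inj ((Nat.prime_dvd_prime_iff_eq (hx.prime j) (hx.prime i)).1 h3)] at hjω
      exact hjω
  obtain ⟨m, hm⟩ := exists_prime_orderOf_dvd_card' (G := M) s (hsQ.trans (card_dvd_of_surjective π hπs))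
  refine ⟨m, by rw [Subgroup.orderOf_coe, hm], ?_, fun ω => ?_⟩
  · obtain ⟨c, hc⟩ := e0.surjective m
    rw [← hc, he0]
    exact hmul _
  · rcases main ω with h | h
    · exact Or.inr (h m.2)
    · exact Or.inl h

end Cfsg.Agent.H182.RG
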