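import Cfsg.Agent.PreUniqB.HNCase
import Cfsg.Agent.BpSpor.BFiveAsm
import Cfsg.Agent.H979.OddB
import Cfsg.Agent.CpAutBFive.Final
import Cfsg.Agent.MFiveHN.Closed
import Cfsg.Agent.HN.AutHS
import Cfsg.Agent.BpSpor.MFiveHA
import Cfsg.Agent.NotCT.Orders
import Cfsg.Agent.H182.RG.Comp

/-!
# S3509, row B: members of order 5 of type 5A (helper182)

* `conj_of_classes` : `t` not conjugate to `z` commuting with `x`, `C(x)/⟨x⟩ ≅ HN` : the image of `t` is conjugate to `Q 0`;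
* `exists_hom` : the homomorphism `C(x) ∩ C(t) → Sym(100)`, kernel `⟨x⟩ × ⟨t⟩`, image `HS.2`;
* `exists_eleven` : a member `x i` of order 5 and type 5A gives an `m` of order 11 with `{x i, m}` a cover.
-/

set_option autoImplicit false
set_option maxRecDepth 100000

namespace Cfsg.Agent.H182.RG.BFive

open Cfsg Cfsg.Agent Cfsg.Agent.MonsterX Cfsg.Agent.MonsterX.InstData Cfsg.Agent.MonsterX.MainPack Cfsg.Agent.MonsterU
open Cfsg.Agent.MonsterP Cfsg.Agent.MonsterN Cfsg.Agent.LThreeMB Cfsg.Agent.PreUniqB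
open Cfsg.Agent.MonsterU.Ch
open Cfsg.Agent.MonsterU.Lam2 (L2)
open Cfsg.Agent.LThreeB (XT mem_XT)
open Subgroup (centralizer mem_centralizer_singleton_iff center zpowers)
open Cfsg.Spor (Co1)

universe u v

section classes

open Cfsg.Agent.KFacts.HN Cfsg.Agent.HN.XWords Cfsg.Agent.HN.XStruct
open Cfsg.Agent.HN Cfsg.Agent.HN.Pres Cfsg.Agent.HN.P1408 Cfsg.Agent.HN.H0Basic

variable {p : ℕ} {G : Type u} [Group G] {Q : Subgroup G} {z : G} {eta : G → L2}
  {pi : Subgroup.centralizer ({z} : Set G) →* Co1}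

/-- **the class of the image of `t` in `HN`** -/
theorem conj_of_classes [Finite G] (h : Chart Q z eta pi) 
    {x : Subgroup.centralizer ({z} : Set G)} (hx : orderOf x = 5) (hfr : ¬ fr (pi x) ∣ 2)
    (hfr2 : ∃ k, fr (pi x) = 2 ^ k) (e : XX (x : G) ≃* Cfsg.Spor.HN) {t : G} (ht : orderOf t = 2)
    (hxt : (x : G) * t = t * x) (hnt : ∀ d : G, d * t * d⁻¹ ≠ z) :
    ∃ g : Cfsg.Spor.HN, g * Cfsg.Agent.HN.XWords.Q 0 * g⁻¹ = e (mk (x : G) hxt.symm) := by
  have hp : Nat.Prime 5 := Nat.prime_five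
  have hp2 : (5 : ℕ) ≠ 2 := by norm_num
  have hF : Finite Cfsg.Spor.HN := Finite.of_equiv _ e.toEquiv
  have ho : Odd 5 := hp.odd_of_ne_two hp2
  have hxo : orderOf (x : G) = 5 := by rw [Subgroup.orderOf_coe, hx]
  have hxp : (x : G) ^ 5 = 1 := by rw [← hxo, pow_orderOf_eq_one]
  have htt : t * t = 1 := by rw [← pow_two, ← ht, pow_orderOf_eq_one]
  have ht1 : t ≠ 1 := by
    intro h1
    rw [h1, orderOf_one] at ht
    exact absurd ht (by norm_num)
  obtain ⟨m, hm⟩ := ho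
  -- an involution commuting with `x` is not in `⟨x⟩`
  have hinv : ∀ s : G, s * s = 1 → s ≠ 1 → ∀ hs : s * (x : G) = x * s, orderOf (mk (x : G) hs) = 2 := by
    intro s hss hs1 hs
    have : Fact (Nat.Prime 2) := ⟨Nat.prime_two⟩
    apply orderOf_eq_prime
    · rw [pow_two, mk_mul hs hs (by rw [hss, one_mul, mul_one])]
      rw [mk_congr _ (by rw [one_mul, mul_one]) hss]
      rfl
    · intro h1
      obtain ⟨i, hi⟩ := (mk_eq_one hs).1 h1
      apply hs1
      have h2 : s ^ 5 = 1 := by rw [← hi, ← zpow_natCast, ← zpow_mul, mul_comm, zpow_mul, zpow_natCast, hxp, one_zpow]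
      rwa [hm, pow_succ, pow_mul, pow_two, hss, one_pow, one_mul] at h2
  have hot : orderOf (e (mk (x : G) hxt.symm)) = 2 := by
    rw [MulEquiv.orderOf_eq]
    exact hinv t htt ht1 hxt.symm
  have hot' : e (mk (x : G) hxt.symm) * e (mk (x : G) hxt.symm) = 1 := by
    rw [← pow_two, ← hot, pow_orderOf_eq_one]
  rcases OddHalf.D4.Spor.HN.inv_cases hot' (fun h1 => by rw [h1, orderOf_one] at hot; omega) with h1 | h1
  · exfalso
    obtain ⟨g1, hg1⟩ := h1
    have h1 : IsConj (e (mk (x : G) hxt.symm)) W0 := (isConj_iff.2 ⟨g1, hg1⟩).symm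
    have hzz : z * z = 1 := h.large.z_sq
    have hzx : z * (x : G) = x * z := (mem_centralizer_singleton_iff.1 x.2).symm
    rcases classes_hn (e (tt x)) (by rw [MulEquiv.orderOf_eq]; exact hinv z hzz h.large.z_ne hzx) with h2 | h2
    · exact not_pairish h hp hp2 hx hfr hfr2 e h2
    · obtain ⟨c, hc⟩ := isConj_iff.1 (h1.trans h2.symm)
      obtain ⟨c, rfl⟩ := e.surjective c
      rw [← map_mul, ← map_inv, ← map_mul] at hc
      obtain ⟨g, hg, rfl⟩ := exists_mk c
      have hc2 := e.injective hc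
      have h3 : mk (x : G) (conj_comm hg hxt.symm) = mk (x : G) hzx := hc2
      obtain ⟨i, hi⟩ := (mk_eq_mk _ _).1 h3
      -- `g t g⁻¹ x^i = z`
      apply hnt g
      have hcx : Commute (g * t * g⁻¹) ((x : G) ^ i) :=
        (show Commute (g * t * g⁻¹) (x : G) from conj_comm hg hxt.symm).zpow_right i
      have h4 : (g * t * g⁻¹ * (x : G) ^ i) ^ 5 = z ^ 5 := by rw [hi]
      have hpow : ∀ s : G, s * s = 1 → s ^ 5 = s := fun s hs => by
        rw [hm, pow_succ, pow_mul, pow_two, hs, one_pow, one_mul]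
      have h5 : (g * t * g⁻¹) * (g * t * g⁻¹) = 1 := by
        calc (g * t * g⁻¹) * (g * t * g⁻¹) = g * (t * t) * g⁻¹ := by group
          _ = 1 := by rw [htt]; group
      rw [hcx.mul_pow, hpow _ h5, hpow _ hzz, ← zpow_natCast ((x : G) ^ i), ← zpow_mul, mul_comm i, zpow_mul, zpow_natCast,
        hxp, one_zpow, mul_one] at h4
      exact h4
  · exact h1

/-- elements commuting with `t` modulo `⟨x⟩` -/
theorem comm_of_mk {G : Type u} [Group G] {x t : G} (hx : x ^ 5 = 1) (ht : t * t = 1) (hxt : x * t = t * x) {c : G}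
    (hc : c * x = x * c) (h : mk x hc * mk x hxt.symm = mk x hxt.symm * mk x hc) : c * t = t * c := by
  have h1 : mk x (conj_comm hc hxt.symm) = mk x hxt.symm := by
    have h2 : mk x (conj_comm hc hxt.symm) = mk x hc * mk x hxt.symm * (mk x hc)⁻¹ := rfl
    rw [h2, h, mul_inv_cancel_right]
  obtain ⟨i, hi⟩ := (mk_eq_mk _ _).1 h1
  have hcx : Commute (c * t * c⁻¹) (x ^ i) := (show Commute (c * t * c⁻¹) x from conj_comm hc hxt.symm).zpow_right i
  have hpow : ∀ s : G, s * s = 1 → s ^ 5 = s := fun s hs => by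
    rw [show 5 = 2 * 2 + 1 by norm_num, pow_succ, pow_mul, pow_two s, hs, one_pow, one_mul]
  have h5 : (c * t * c⁻¹) * (c * t * c⁻¹) = 1 := by
    calc (c * t * c⁻¹) * (c * t * c⁻¹) = c * (t * t) * c⁻¹ := by group
      _ = 1 := by rw [ht]; group
  have h4 : (c * t * c⁻¹ * x ^ i) ^ 5 = t ^ 5 := by rw [hi]
  rw [hcx.mul_pow, hpow _ h5, hpow _ ht, ← zpow_natCast (x ^ i), ← zpow_mul, mul_comm i, zpow_mul, zpow_natCast,
    hx, one_zpow, mul_one] at h4
  calc c * t = (c * t * c⁻¹) * c := by group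
    _ = t * c := by rw [h4]

/-- **`C(x) ∩ C(t) → Sym(100)`** -/
theorem exists_hom {G : Type u} [Group G] {x t : G} (hx : x ^ 5 = 1) (ht : t * t = 1) (hxt : x * t = t * x)
    (E : XX x ≃* Cfsg.Spor.HN) (hE : E (mk x hxt.symm) = Cfsg.Agent.HN.XWords.Q 0) :
    ∃ F : ↥(XT x t) →* Equiv.Perm (Fin 100),
      (∀ c, F c = 1 → (∃ i : ℤ, x ^ i = (c : G)) ∨ ∃ i : ℤ, t * x ^ i = (c : G)) ∧
      F ⟨t, mem_XT.2 ⟨hxt.symm, rfl⟩⟩ = 1 ∧
      (∀ c, ∀ q ∈ HS100.Q, F c * q * (F c)⁻¹ ∈ HS100.Q) ∧ ∀ q ∈ HS100.Q, ∃ c, F c = q := by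
  have hψi : Function.Injective NormalH.ψ := Cfsg.Agent.KFacts.HN.emb.inj
  let m1 : ↥(XT x t) →* XX x := (QuotientGroup.mk' (Zx x)).comp (Subgroup.inclusion inf_le_left)
  have hm1 : ∀ c : ↥(XT x t), m1 c = mk x (mem_XT.1 c.2).1 := fun c => rfl
  have hr : ∀ c : ↥(XT x t), E (m1 c) ∈ NormalH.ψ.range := by
    intro c
    obtain ⟨u, hu⟩ := mem_range_of_comm (c := E (m1 c)) (by
      rw [← hE, ← map_mul, ← map_mul, hm1, mk_mul _ _ (by
        rw [mul_assoc, hxt.symm, ← mul_assoc, (mem_XT.1 c.2).1, mul_assoc]), mk_mul _ _ (by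
        rw [mul_assoc, (mem_XT.1 c.2).1, ← mul_assoc, hxt.symm, mul_assoc])]
      congr 1
      exact mk_congr _ _ (mem_XT.1 c.2).2)
    exact ⟨u, hu⟩
  let F0 : ↥(XT x t) →* H0 := (MonoidHom.ofInjective hψi).symm.toMonoidHom.comp
    ((E.toMonoidHom.comp m1).codRestrict NormalH.ψ.range hr)
  have hF0 : ∀ c, NormalH.ψ (F0 c) = E (m1 c) := by
    intro c
    have h1 : MonoidHom.ofInjective hψi (F0 c) = ⟨E (m1 c), hr c⟩ :=
      (MonoidHom.ofInjective hψi).apply_symm_apply _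
    exact congrArg Subtype.val h1
  refine ⟨HS100.φ.comp F0, fun c hc => ?_, ?_, ?_, ?_⟩
  · rcases φ_eq_one_iff.1 hc with h1 | h1
    · left
      have h2 := hF0 c
      rw [h1, map_one] at h2
      have h3 : m1 c = 1 := E.injective (by rw [← h2, map_one])
      rw [hm1, mk_eq_one] at h3
      exact h3
    · right
      have h2 := hF0 c
      rw [h1, ← Cfsg.Agent.KFacts.HN.Q0_eq, ← hE] at h2
      have h3 := E.injective h2
      rw [hm1] at h3
      exact (mk_eq_mk _ _).1 h3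
  · apply φ_eq_one_iff.2
    right
    apply hψi
    rw [hF0, ← Cfsg.Agent.KFacts.HN.Q0_eq, ← hE]
    rfl
  · rintro c _ ⟨k, hk, rfl⟩
    refine ⟨F0 c * k * (F0 c)⁻¹, HS100.K_normal.conj_mem k hk _, ?_⟩
    rw [map_mul, map_mul, map_inv]
    rfl
  · rintro _ ⟨k, hk, rfl⟩
    obtain ⟨w, hw⟩ := E.surjective (NormalH.ψ k)
    obtain ⟨c, hc, rfl⟩ := exists_mk w
    have hct : c * t = t * c := by
      refine comm_of_mk hx ht hxt hc (E.injective ?_)
      rw [map_mul, map_mul, hw, hE]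
      exact Cfsg.Agent.KFacts.HN.comm_of_ψ k
    refine ⟨⟨c, mem_XT.2 ⟨hc, hct⟩⟩, ?_⟩
    show HS100.φ (F0 _) = HS100.φ k
    congr 1
    apply hψi
    rw [hF0, ← hw]
    rfl

end classes

section conj

/-- conjugation -/
theorem conj_equiv {G : Type*} [Group G] {x y t s : G} (c : G) (hy : c * x * c⁻¹ = y) (hs : c * t * c⁻¹ = s)
    (ht : t * x = x * t) (hs' : s * y = y * s) : ∃ φ : XX x ≃* XX y, φ (mk x ht) = mk y hs' := by
  subst hy
  subst hs
  have hc : ∀ g : G, g * x = x * g ↔ (c * g * c⁻¹) * (c * x * c⁻¹) = (c * x * c⁻¹) * (c * g * c⁻¹) := by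
    intro g
    have h1 : (c * g * c⁻¹) * (c * x * c⁻¹) = c * (g * x) * c⁻¹ := by group
    have h2 : (c * x * c⁻¹) * (c * g * c⁻¹) = c * (x * g) * c⁻¹ := by group
    rw [h1, h2]
    constructor
    · intro h; rw [h]
    · intro h; exact mul_left_cancel (mul_right_cancel h)
  let e : ↥(centralizer ({x} : Set G)) ≃* ↥(centralizer ({c * x * c⁻¹} : Set G)) :=
    { toFun := fun g => ⟨c * g * c⁻¹, mem_centralizer_singleton_iff.2 ((hc g).1 (mem_centralizer_singleton_iff.1 g.2))⟩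
      invFun := fun g => ⟨c⁻¹ * g * c, mem_centralizer_singleton_iff.2 ((hc _).2 (by
        have : c * (c⁻¹ * (g : G) * c) * c⁻¹ = g := by group
        rw [this]
        exact mem_centralizer_singleton_iff.1 g.2))⟩
      left_inv := fun g => Subtype.ext (by
        show c⁻¹ * (c * (g : G) * c⁻¹) * c = g
        group)
      right_inv := fun g => Subtype.ext (by
        show c * (c⁻¹ * (g : G) * c) * c⁻¹ = g
        group)
      map_mul' := fun g g' => Subtype.ext (by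
        show c * ((g : G) * g') * c⁻¹ = c * g * c⁻¹ * (c * g' * c⁻¹)
        group) }
  have he : e (self x) = self (c * x * c⁻¹) := rfl
  refine ⟨QuotientGroup.congr (Zx x) (Zx (c * x * c⁻¹)) e ?_, rfl⟩
  rw [Zx, Zx, MonoidHom.map_zpowers]
  exact congrArg _ he

end conj

section cover

/-- **from `C(a) ∩ C(t)` to `C_L(y)`**, `y` the image of `a` in `C(t)/⟨t⟩ ≅ L` -/
theorem exists_hom_cover {M : Type u} [Group M] [Finite M] {t : M} (ht : orderOf t = 2)
    (h2 : Nat.card ↥(center ↥(centralizer ({t} : Set M))) = 2) {L : Type v} [Group L]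
    (e : ↥(centralizer ({t} : Set M)) ⧸ center ↥(centralizer ({t} : Set M)) ≃* L) {p : ℕ} (hp : p.Prime) (hp2 : p ≠ 2)
    {a : ↥(centralizer ({t} : Set M))} (ha : orderOf a = p) {P : Type*} [Group P] (F : ↥(XT (a : M) t) →* P)
    (hFt : F ⟨t, mem_XT.2 ⟨(mem_centralizer_singleton_iff.1 a.2).symm, rfl⟩⟩ = 1)
    (hFk : ∀ c, F c = 1 → (∃ i : ℤ, (a : M) ^ i = (c : M)) ∨ ∃ i : ℤ, t * (a : M) ^ i = (c : M)) :
    ∃ f : ↥(centralizer ({e (QuotientGroup.mk a)} : Set L)) →* P, (∀ g, ∃ c, f g = F c) ∧ (∀ c, ∃ g, f g = F c) ∧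
      ∀ g, f g = 1 → (g : L) ∈ zpowers (e (QuotientGroup.mk a)) := by
  let E : Subgroup M := centralizer ({t} : Set M)
  let Z : Subgroup ↥E := center ↥E
  have har : a ^ p = 1 := by rw [← ha, pow_orderOf_eq_one]
  obtain ⟨y, hy⟩ : ∃ y : L, y = e (QuotientGroup.mk a) := ⟨_, rfl⟩
  rw [← hy]
  -- the centre
  let t0 : ↥E := ⟨t, mem_centralizer_singleton_iff.2 rfl⟩
  have ht0 : t0 ∈ Z := by
    refine Subgroup.mem_center_iff.2 fun g => ?_
    exact Subtype.ext (mem_centralizer_singleton_iff.1 g.2)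
  have ht1 : t ≠ 1 := by
    intro h1
    rw [h1, orderOf_one] at ht
    exact absurd ht (by norm_num)
  have hZc : ∀ c ∈ Z, c = 1 ∨ c = t0 := by
    intro c hc
    by_contra hcon
    push Not at hcon
    have h3 : ({1, t0, c} : Set ↥E).ncard = 3 := by
      rw [Set.ncard_eq_three]
      exact ⟨1, t0, c, fun h => ht1 (congrArg Subtype.val h).symm, hcon.1.symm, hcon.2.symm, rfl⟩
    have hfin : (Z : Set ↥E).Finite := Set.toFinite _
    have h4 : ({1, t0, c} : Set ↥E).ncard ≤ (Z : Set ↥E).ncard := by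
      apply Set.ncard_le_ncard _ hfin
      rintro w (rfl | rfl | rfl)
      · exact Z.one_mem
      · exact ht0
      · exact hc
    have h5 : (Z : Set ↥E).ncard = 2 := h2
    omega
  have hmem : ∀ c : ↥(XT (a : M) t), e (QuotientGroup.mk (⟨c, (Subgroup.mem_inf.1 c.2).2⟩ : ↥E)) ∈
      centralizer ({y} : Set L) := by
    intro c
    rw [mem_centralizer_singleton_iff, hy, ← map_mul, ← map_mul]
    congr 1
    exact congrArg (QuotientGroup.mk (s := Z)) (Subtype.ext (mem_XT.1 c.2).1)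
  let g : ↥(XT (a : M) t) →* ↥(centralizer ({y} : Set L)) :=
    ((e.toMonoidHom.comp (QuotientGroup.mk' Z)).comp (Subgroup.inclusion inf_le_right)).codRestrict _ hmem
  have hgv : ∀ c, ((g c : ↥(centralizer ({y} : Set L))) : L) =
      e (QuotientGroup.mk (⟨c, (Subgroup.mem_inf.1 c.2).2⟩ : ↥E)) := fun c => rfl
  have hg : Function.Surjective g := by
    rintro ⟨w, hw⟩
    obtain ⟨c, hc⟩ := QuotientGroup.mk_surjective (e.symm w)
    have h3 : a * c = c * a := by
      refine Cfsg.Agent.H979.CovLift.lift_comm le_rfl h2 (hp.odd_of_ne_two hp2) har ?_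
      rw [hc]
      apply e.injective
      rw [map_mul, map_mul, e.apply_symm_apply, ← hy]
      exact (mem_centralizer_singleton_iff.1 hw).symm
    refine ⟨⟨c, mem_XT.2 ⟨congrArg Subtype.val h3.symm, mem_centralizer_singleton_iff.1 c.2⟩⟩, Subtype.ext ?_⟩
    show e (QuotientGroup.mk c) = w
    rw [hc, e.apply_symm_apply]
  obtain ⟨f, hf⟩ := exists_fac g hg F (by
    intro c hc
    have h3 : e (QuotientGroup.mk (⟨c, (Subgroup.mem_inf.1 c.2).2⟩ : ↥E)) = 1 := by
      rw [← hgv, hc]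
      rfl
    rw [map_eq_one_iff e e.injective] at h3
    rcases hZc _ ((QuotientGroup.eq_one_iff _).1 h3) with h4 | h4
    · have h5 : c = 1 := Subtype.ext (congrArg (fun w : ↥E => (w : M)) h4)
      rw [h5, map_one]
    · have h5 : c = ⟨t, mem_XT.2 ⟨(mem_centralizer_singleton_iff.1 a.2).symm, rfl⟩⟩ :=
        Subtype.ext (congrArg (fun w : ↥E => (w : M)) h4)
      rw [h5, hFt])
  refine ⟨f, fun c => ?_, fun c => ⟨g c, hf c⟩, fun u hu => ?_⟩
  · obtain ⟨c, rfl⟩ := hg c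
    exact ⟨c, hf c⟩
  · obtain ⟨c, rfl⟩ := hg u
    rw [hf] at hu
    have hta : (QuotientGroup.mk t0 : ↥E ⧸ Z) = 1 := (QuotientGroup.eq_one_iff _).2 ht0
    rw [hgv]
    rcases hFk c hu with ⟨i, hi⟩ | ⟨i, hi⟩
    · refine ⟨i, ?_⟩
      have h5 : (⟨c, (Subgroup.mem_inf.1 c.2).2⟩ : ↥E) = a ^ i := Subtype.ext hi.symm
      rw [h5, QuotientGroup.mk_zpow, map_zpow, ← hy]
    · refine ⟨i, ?_⟩
      have h5 : (⟨c, (Subgroup.mem_inf.1 c.2).2⟩ : ↥E) = t0 * a ^ i := Subtype.ext hi.symm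
      rw [h5, QuotientGroup.mk_mul, hta, one_mul, QuotientGroup.mk_zpow, map_zpow, ← hy]

end cover

section zero

theorem card_XX {G : Type*} [Group G] [Finite G] (x : G) :
    Nat.card ↥(centralizer ({x} : Set G)) = orderOf x * Nat.card (XX x) := by
  rw [Subgroup.card_eq_card_quotient_mul_card_subgroup (Zx x), mul_comm]
  congr 1
  rw [Zx, Nat.card_zpowers, self, Subgroup.orderOf_mk]

theorem not_solvable {A : Type*} [Group A] (hA : IsSimpleGroup A) {n : ℕ} (hn : Nat.card A = n) (h2 : 2 ∣ n)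
    (h4 : n ≠ 2) : ¬ Group.IsSolvable A := by
  intro hs
  let _ : CommGroup A := { (inferInstance : Group A) with
    mul_comm := (IsSimpleGroup.comm_iff_isSolvable (G := A)).2 hs }
  have h3 : (Nat.card A).Prime := IsSimpleGroup.prime_card
  rw [hn] at h3
  exact h4 ((Nat.prime_dvd_prime_iff_eq Nat.prime_two h3).1 h2).symm

/-- **type 5A is not of fixed rank 0** -/
theorem fr_ne_one {y : centralizer ({KDone.K.z} : Set ↥InstData.M.G)} (hy : orderOf y = 5)
    (hHN : Spor.IsoHN (XX (y : ↥InstData.M.G))) : fr (KChart.pi MFive.Row.hc y) ≠ 1 := by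
  intro hfr
  have hfin : Finite ↥InstData.M.G := MThirteen.Row.finite
  have h := KChart.chart KDone.lft MFive.Row.hc
  have hp : Fact (Nat.Prime 5) := ⟨Nat.prime_five⟩
  have hyM : orderOf (y : ↥InstData.M.G) = 5 := by rw [Subgroup.orderOf_coe, hy]
  have hy' : orderOf (KChart.pi MFive.Row.hc y) = 5 := MFive.orderOf_pi h Nat.prime_five (by decide) hy
  have hS : Spor.IsoJ2 (XX (KChart.pi MFive.Row.hc y)) := MFive.JTwo.isoJ2 hy' hfr
  have hcS : Nat.card (XX (KChart.pi MFive.Row.hc y)) = 604800 := NotCT.Orders.j2 hS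
  have hs : IsSimpleGroup (XX (KChart.pi MFive.Row.hc y)) := by
    obtain ⟨e⟩ := hS
    exact (MulEquiv.isSimpleGroup_congr e).2 Cfsg.Agent.S1620.result.1
  have hns : ¬ Group.IsSolvable (XX (KChart.pi MFive.Row.hc y)) := not_solvable hs hcS (by norm_num) (by norm_num)
  obtain ⟨N, hN⟩ := BpSpor.M5.exists_rad h (by norm_num) hy hfr
    (fun d hd hc => MFive.isolated h BpSpor.M5.trNe hy hfr d hd hc) hs (by rw [hcS]; decide)
  obtain ⟨m, hm, hcm⟩ := hN.card_N_mul hns
  rw [hcS, card_XX, hyM, NotCT.Orders.hn hHN] at hcm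
  have hss : IsSimpleGroup (XX (y : ↥InstData.M.G)) := by
    obtain ⟨e⟩ := hHN
    exact (MulEquiv.isSimpleGroup_congr e).2 Cfsg.Agent.S1701.result.1
  have hle : Zx (y : ↥InstData.M.G) ≤ N := by
    rw [Zx, Subgroup.zpowers_le]
    exact hN.xN
  have hNn := hN.nN
  have hm2 : m = 1 ∨ m = 2 := (Nat.dvd_prime Nat.prime_two).1 hm
  rcases (hNn.map (QuotientGroup.mk' (Zx (y : ↥InstData.M.G))) (QuotientGroup.mk'_surjective _)).eq_bot_or_eq_top with
    h1 | h1
  · -- `N = ⟨x⟩`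
    have h2 : N ≤ Zx (y : ↥InstData.M.G) := by
      rw [Subgroup.map_eq_bot_iff, QuotientGroup.ker_mk'] at h1
      exact h1
    have h3 : Nat.card N = 5 := by
      rw [le_antisymm h2 hle, Zx, Nat.card_zpowers, self, Subgroup.orderOf_mk, hyM]
    rw [h3] at hcm
    rcases hm2 with rfl | rfl <;> norm_num at hcm
  · -- `N` is everything
    have h2 : N = ⊤ := by
      rw [eq_top_iff]
      intro g _
      have h3 : QuotientGroup.mk' (Zx (y : ↥InstData.M.G)) g ∈ N.map (QuotientGroup.mk' (Zx (y : ↥InstData.M.G))) := by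
        rw [h1]; trivial
      obtain ⟨n, hn, h4⟩ := h3
      have h5 : n⁻¹ * g ∈ Zx (y : ↥InstData.M.G) := QuotientGroup.eq.1 h4
      have h6 := N.mul_mem hn (hle h5)
      rwa [mul_inv_cancel_left] at h6
    have h3 := hN.oN
    rw [h2, Subgroup.card_top, card_XX, hyM, NotCT.Orders.hn hHN] at h3
    revert h3
    decide

end zero

section main

open MulAction
open Cfsg.Agent.H106.RC Cfsg.Agent.H873.RG
open Cfsg.Agent.HN

theorem card_Q : Nat.card HS100.Q = 44352000 := DoubleCover.card_Q H0Basic.card_H0 P1408.gx_sq_ne_one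

theorem ncomm_Q : ¬ IsMulCommutative HS100.Q := by
  intro hcm
  have hs := AutHS.nonempty_Q.2
  have h1 : Nat.Prime (Nat.card HS100.Q) := by
    let _ : CommGroup HS100.Q := { (inferInstance : Group HS100.Q) with mul_comm := hcm.is_comm.comm }
    exact IsSimpleGroup.prime_card
  rw [card_Q] at h1
  revert h1
  norm_num

/-- the Higman–Sims group is not alternating -/
theorem nsa_Q : NSA HS100.Q := by
  refine ⟨AutHS.nonempty_Q.2, ncomm_Q, ?_⟩
  rintro ⟨n, hn, ⟨e⟩⟩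
  have h1 := Nat.card_congr e.toEquiv
  have : Nontrivial (Fin n) := Fin.nontrivial_iff_two_le.2 (by omega)
  rw [card_Q, nat_card_alternatingGroup, Nat.card_fin] at h1
  have h2 : Nat.factorial n = 2 * 44352000 := by
    have h3 : 2 ∣ Nat.factorial n := Nat.dvd_factorial (by norm_num) (by omega)
    omega
  rcases Nat.lt_or_ge n 12 with h3 | h3
  · have h4 := Nat.factorial_le (show n ≤ 11 by omega)
    rw [h2] at h4
    revert h4
    decide
  · have h4 := Nat.factorial_le h3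
    rw [h2] at h4
    revert h4
    decide

theorem eq_pow {G : Type*} [Group G] {a b : G} (h : a = b) (n : ℤ) : a ^ n = b ^ n := by rw [h]

/-- **`x i` of type 5A gives a pair `x i`, `m` with `m` of order 11.** -/
theorem exists_eleven {L : Type} [Group L] [Finite L] (h : Spor.IsoB L) (hIH : IHx (Nat.card L)) {Ω : Type}
    [MulAction L Ω] {ι : Type} [Finite ι] {x : ι → L} {r : ι → ℕ} (hx : PF x r) (hc : Cov Ω x) (i : ι)
    {t : ↥InstData.M.G} (ht : LThreeB.Row.TA t)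
    (h2 : Nat.card ↥(center ↥(centralizer ({t} : Set ↥InstData.M.G))) = 2)
    (e : ↥(centralizer ({t} : Set ↥InstData.M.G)) ⧸ center ↥(centralizer ({t} : Set ↥InstData.M.G)) ≃* L)
    {a : ↥(centralizer ({t} : Set ↥InstData.M.G))} (ha : orderOf a = 5) (hxa : e (QuotientGroup.mk a) = x i)
    (hHN : Spor.IsoHN (XX (a : ↥InstData.M.G))) :
    ∃ m : L, orderOf m = 11 ∧ m * x i = x i * m ∧ ∀ ω : Ω, x i • ω = ω ∨ m • ω = ω := by
  have hfin : Finite ↥InstData.M.G := MThirteen.Row.finite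
  have h5p : Fact (Nat.Prime 5) := ⟨Nat.prime_five⟩
  have hch := KChart.chart KDone.lft MFive.Row.hc
  have hto : orderOf t = 2 := MThirteen.Row.ta_order ht
  have htt : t * t = 1 := by rw [← pow_two, ← hto, pow_orderOf_eq_one]
  have htz := MThirteen.Row.ta_ne ht
  have haM : orderOf (a : ↥InstData.M.G) = 5 := by rw [Subgroup.orderOf_coe, ha]
  have ha5 : (a : ↥InstData.M.G) ^ 5 = 1 := by rw [← haM, pow_orderOf_eq_one]
  have hat : (a : ↥InstData.M.G) * t = t * a := mem_centralizer_singleton_iff.1 a.2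
  -- `|C(a)|`
  have hcard : Nat.card ↥(centralizer ({(a : ↥InstData.M.G)} : Set ↥InstData.M.G)) = 5 * 273030912000000 := by
    rw [card_XX, haM, NotCT.Orders.hn hHN]
  obtain ⟨g, hg⟩ := (CpAutBFive.EvenRow.cases haM).resolve_right fun h => h (by rw [hcard]; norm_num)
  -- the isomorphism
  have hE : ∃ E : XX (a : ↥InstData.M.G) ≃* Cfsg.Spor.HN, E (mk (a : ↥InstData.M.G) hat.symm) = Cfsg.Agent.HN.XWords.Q 0 := by
    have h1 : (g⁻¹ * (a : ↥InstData.M.G) * g) * KDone.K.z = KDone.K.z * (g⁻¹ * a * g) := by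
      calc (g⁻¹ * (a : ↥InstData.M.G) * g) * KDone.K.z = g⁻¹ * (a * (g * KDone.K.z * g⁻¹)) * g := by group
        _ = g⁻¹ * ((g * KDone.K.z * g⁻¹) * a) * g := by rw [hg]
        _ = KDone.K.z * (g⁻¹ * a * g) := by group
    let x' : centralizer ({KDone.K.z} : Set ↥InstData.M.G) := ⟨g⁻¹ * a * g, mem_centralizer_singleton_iff.2 h1⟩
    have h3 : g * (x' : ↥InstData.M.G) * g⁻¹ = a := by
      show g * (g⁻¹ * (a : ↥InstData.M.G) * g) * g⁻¹ = a
      group
    have hx' : orderOf x' = 5 := by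
      rw [← Subgroup.orderOf_coe, ← haM, ← h3]
      exact (orderOf_injective (MulAut.conj g).toMonoidHom (MulAut.conj g).injective (x' : ↥InstData.M.G)).symm
    have h4 : (x' : ↥InstData.M.G) * (g⁻¹ * t * g) = (g⁻¹ * t * g) * x' := by
      have h5 := LThreeB.conj_comm' (g := g⁻¹) hat
      rw [inv_inv] at h5
      exact h5
    have h5 : orderOf (g⁻¹ * t * g) = 2 := by
      rw [← hto]
      have h6 := MulEquiv.orderOf_eq (MulAut.conj g⁻¹) t
      rw [MulAut.conj_apply, inv_inv] at h6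
      exact h6
    have h6 : ∀ d : ↥InstData.M.G, d * (g⁻¹ * t * g) * d⁻¹ ≠ KDone.K.z := by
      intro d hd
      refine htz (d * g⁻¹) ?_
      rw [← hd]
      group
    obtain ⟨φ, hφ⟩ := conj_equiv g⁻¹ (x := (a : ↥InstData.M.G)) (y := x') (t := t) (s := g⁻¹ * t * g)
      (by rw [inv_inv]) (by rw [inv_inv]) hat.symm h4.symm
    obtain ⟨e1⟩ := hHN
    have hHN' : Spor.IsoHN (XX (x' : ↥InstData.M.G)) := ⟨φ.symm.trans e1⟩
    have hfr1 := fr_ne_one hx' hHN'
    have hfr := (CpAutBFive.Final.coFive.ranks (KChart.pi MFive.Row.hc x')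
      (MFive.orderOf_pi hch Nat.prime_five (by decide) hx')).resolve_left hfr1
    have hfr2 : ∃ k, fr (KChart.pi MFive.Row.hc x') = 2 ^ k := by
      rcases hfr with h | h
      · exact ⟨4, h⟩
      · exact ⟨8, h⟩
    have hfr3 : ¬ fr (KChart.pi MFive.Row.hc x') ∣ 2 := by
      rcases hfr with h | h <;> · rw [h]; norm_num
    obtain ⟨k, hk⟩ := conj_of_classes hch hx' hfr3 hfr2 (φ.symm.trans e1) h5 h4 h6
    refine ⟨e1.trans (MulAut.conj k⁻¹), ?_⟩
    have h7 : (φ.symm.trans e1) (mk (x' : ↥InstData.M.G) h4.symm) = e1 (mk (a : ↥InstData.M.G) hat.symm) := by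
      show e1 (φ.symm _) = _
      rw [← hφ, MulEquiv.symm_apply_apply]
    rw [h7] at hk
    show k⁻¹ * e1 (mk (a : ↥InstData.M.G) hat.symm) * k⁻¹⁻¹ = _
    rw [← hk]
    group
  obtain ⟨E, hE⟩ := hE
  obtain ⟨F, hF1, hF2, hF3, hF4⟩ := exists_hom ha5 htt hat E hE
  obtain ⟨f, hf1, hf2, hf3⟩ : ∃ f : ↥(centralizer ({x i} : Set L)) →* Equiv.Perm (Fin 100), (∀ g, ∃ c, f g = F c) ∧
      (∀ c, ∃ g, f g = F c) ∧ ∀ g, f g = 1 → (g : L) ∈ zpowers (x i) := by
    have h6 := exists_hom_cover hto h2 e Nat.prime_five (by norm_num) ha F hF2 hF1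
    rw [hxa] at h6
    exact h6
  have hfQ : Finite HS100.Q := Nat.finite_of_card_ne_zero (by rw [card_Q]; norm_num)
  refine exists_pair hx hc i f HS100.Q AutHS.nonempty_Q.2 ncomm_Q (hIH _ nsa_Q ?_) (fun q hq => ?_) (fun u q hq => ?_)
    (fun u hu => hf3 u (AutHS.eq_one_of_comm hu)) (by norm_num) (by rw [card_Q]; norm_num)
  · rw [card_Q, NotCT.Orders.b h]
    norm_num
  · obtain ⟨c, rfl⟩ := hF4 q hq
    exact hf2 c
  · obtain ⟨c, hc'⟩ := hf1 u
    rw [hc']
    exact hF3 c q hq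

end main

end Cfsg.Agent.H182.RG.BFive
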