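import Cfsg.Agent.H182.RG.BPair
import Cfsg.Agent.H182.RG.BFive
import Cfsg.Agent.H569.RB.Trans
import Cfsg.Agent.H472.RB.Seven
import Cfsg.Agent.H853.RB.Frame
import Cfsg.Agent.CpAut.TwoInnerB
import Cfsg.Agent.H867.RG.SporOf

/-!
# S3509: the Baby Monster, assembly (helper182)

A minimal cover by commuting elements of different prime orders: no member of order 3 (helper604), no member of order 7
(`seven_central`, helper472, and `not_trans`, helper569), a member of order 2 is the image of a conjugate of `z` (`exists_frame`,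
helper853), no member of order 5 (`exists_eleven`, `not_fiveB`, helper472), so it is `{u, y}` with `|u| = 2`, `|y| ≥ 11` prime:
`base_B` (helper514).
-/

set_option autoImplicit false
set_option maxRecDepth 100000

namespace Cfsg.Agent.H182.RG.BAsm

open Cfsg Cfsg.Agent MulAction Cfsg.Agent.H106.RC Cfsg.Agent.H867.RC
open Cfsg.Agent.H940.Eng (Base)
open Cfsg.Agent.H873.RG
open Subgroup (centralizer)

/-- **no cover**, from the pieces -/
theorem no_cover_of (B : Base) {Ω : Type} [Finite Ω] [Nonempty Ω] [MulAction Spor.BabyMonster Ω]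
    (hE : Env Spor.BabyMonster Ω (⊤ : Subgroup Spor.BabyMonster)) {ι : Type} [Finite ι] {x : ι → Spor.BabyMonster}
    {r : ι → ℕ} (hx : PF x r) (hc : Cov Ω x) (h3 : ∀ i, r i ≠ 3)
    (htrans : ∀ d : Spor.BabyMonster,
      IsConj d (PresentedGroup.of Spor.BabyMonster.Gen.t1 : Spor.BabyMonster) → (∀ i, x i * d = d * x i) → False)
    {C : Spor.BabyMonster → Prop}
    (htwo : ∀ u : Spor.BabyMonster, orderOf u = 2 →
      (∃ d, IsConj d (PresentedGroup.of Spor.BabyMonster.Gen.t1 : Spor.BabyMonster) ∧ u * d = d * u ∧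
        ∀ v, Odd (orderOf v) → v * u = u * v → v * d = d * v) ∨ C u)
    (hfive : (∀ j, r j = 2 ∨ r j = 5 ∨ ¬ 5 ^ 3 ∣ Nat.card ↥(centralizer ({x j} : Set Spor.BabyMonster))) →
      (∀ j, r j = 2 → C (x j)) → ∀ i, r i ≠ 5) : False := by
  have hfin : Finite Spor.BabyMonster := CTwoTab.BInst.finite_B
  have hB : Spor.IsoB Spor.BabyMonster := ⟨MulEquiv.refl _⟩
  have hord : ∀ i, orderOf (x i) = r i := by
    intro i
    have : Fact (r i).Prime := ⟨hx.prime i⟩
    exact orderOf_eq_prime (hx.pow i) (hx.ne i)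
  have h7 : ∀ i, r i ≠ 7 := by
    intro i hi
    obtain ⟨d, hd, -, -, hdc⟩ := H472.RB.seven_central (s := x i) (by rw [hord, hi])
    exact htrans d hd fun j => hdc _ (hx.comm j i)
  have hcase : ∀ i, r i = 2 ∨ r i = 5 ∨ 11 ≤ r i := by
    intro i
    by_contra hcon
    push Not at hcon
    obtain ⟨h2, h5, h11⟩ := hcon
    have h3' := h3 i
    have h7' := h7 i
    have hp := hx.prime i
    generalize r i = n at *
    interval_cases n <;> revert hp <;> norm_num <;> omega
  have h2 : ∀ j, r j = 2 → C (x j) := by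
    intro j hj
    rcases htwo (x j) (by rw [hord, hj]) with ⟨d, hd, hud, hodd⟩ | h
    · exfalso
      refine htrans d hd fun k => ?_
      by_cases hk : r k = 2
      · rw [hx.inj (hk.trans hj.symm)]
        exact hud
      · exact hodd _ (by rw [hord]; exact (hx.prime k).odd_of_ne_two hk) (hx.comm k j)
    · exact h
  have h5 : ∀ i, r i ≠ 5 := by
    refine hfive (fun j => ?_) h2
    rcases hcase j with h | h | h
    · exact Or.inl h
    · exact Or.inr (Or.inl h)
    · exact Or.inr (Or.inr (BPair.not_125 B hB (by rw [hord]; exact hx.prime j) (by rw [hord]; exact h)))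
  have hcase' : ∀ i, r i = 2 ∨ 11 ≤ r i := fun i => (hcase i).imp_right fun h => h.resolve_left (h5 i)
  have hbig : ∀ i j, 11 ≤ r i → 11 ≤ r j → i = j := by
    intro i j hi hj
    by_contra hne
    exact BPair.prime_pair B hB (by rw [hord]; exact hx.prime i) (by rw [hord]; exact hi)
      (by rw [hord]; exact hx.prime j) (by rw [hord]; exact hj) (by rw [hord, hord]; exact fun h => hne (hx.inj h))
      (hx.comm i j)
  by_cases hb : ∃ i, 11 ≤ r i
  · obtain ⟨i, hi⟩ := hb
    by_cases h2e : ∃ j, r j = 2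
    · obtain ⟨j, hj⟩ := h2e
      refine H514.RC.base_B B hB hE (x := x j) (y := x i) (hx.ne j) (by rw [hord]; exact hx.prime i)
        (by rw [hord]; exact hi) fun ω => ?_
      obtain ⟨k, hk⟩ := hc ω
      rcases hcase' k with h | h
      · left
        rwa [hx.inj (h.trans hj.symm)] at hk
      · right
        rwa [hbig k i h hi] at hk
    · push Not at h2e
      refine hx.ne i (hE.single fun ω => ?_)
      obtain ⟨k, hk⟩ := hc ω
      rwa [hbig k i ((hcase' k).resolve_left (h2e k)) hi] at hk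
  · push Not at hb
    have hall : ∀ k, r k = 2 := fun k => (hcase' k).resolve_right fun h => absurd h (not_le.2 (hb k))
    obtain ⟨ω₀⟩ := (inferInstance : Nonempty Ω)
    obtain ⟨i, -⟩ := hc ω₀
    refine hx.ne i (hE.single fun ω => ?_)
    obtain ⟨k, hk⟩ := hc ω
    rwa [hx.inj ((hall k).trans (hall i).symm)] at hk

/-- the row from two more pieces -/
theorem row_of (B : Base)
    (hthree : ∀ {Ω : Type} [Finite Ω] [Nonempty Ω] [MulAction Spor.BabyMonster Ω], IHx (Nat.card Spor.BabyMonster) →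
      Env Spor.BabyMonster Ω (⊤ : Subgroup Spor.BabyMonster) → ∀ {ι : Type} [Finite ι] {x : ι → Spor.BabyMonster}
      {r : ι → ℕ}, PF x r → Cov Ω x → CovMin Ω x → ∀ i, r i ≠ 3)
    (hfive : ∀ {Ω : Type} [Finite Ω] [Nonempty Ω] [MulAction Spor.BabyMonster Ω], IHx (Nat.card Spor.BabyMonster) →
      Env Spor.BabyMonster Ω (⊤ : Subgroup Spor.BabyMonster) → ∀ {ι : Type} [Finite ι] {x : ι → Spor.BabyMonster}
      {r : ι → ℕ}, PF x r → Cov Ω x → CovMin Ω x →
      ∀ {t : ↥MonsterX.InstData.M.G} {q : ↥(centralizer ({t} : Set ↥MonsterX.InstData.M.G)) →* Spor.BabyMonster},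
      H853.RB.Frame t q →
      (∀ j, r j = 2 ∨ r j = 5 ∨ ¬ 5 ^ 3 ∣ Nat.card ↥(centralizer ({x j} : Set Spor.BabyMonster))) →
      (∀ j, r j = 2 → ∃ w : ↥(centralizer ({t} : Set ↥MonsterX.InstData.M.G)),
        IsConj MonsterX.KDone.K.z (w : ↥MonsterX.InstData.M.G) ∧ q w = x j) → ∀ i, r i ≠ 5) :
    RowX (fun S _ => Spor.IsoB S) := by
  intro S _ _ hS h hI
  obtain ⟨e⟩ := h
  have hfin : Finite Spor.BabyMonster := CTwoTab.BInst.finite_B
  rw [Nat.card_congr e.toEquiv] at hI
  refine RC.congr e.symm (rc_of_noCov S1704.result.1 ?_ (noCov_of_inner CpAut.TwoInner.inner_b ?_))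
  · intro hcm
    exact hS.ncomm ⟨⟨fun a b => e.injective (by rw [map_mul, map_mul]; exact hcm.is_comm.comm _ _)⟩⟩
  · intro Ω _ _ _ hE ι _ x r hx hc hm
    obtain ⟨t, q, F, hfr⟩ := H853.RB.exists_frame
    refine no_cover_of B hE hx hc (hthree hI hE hx hc hm) (fun d hd hdc => H569.RB.not_trans B hI hE hx hc hd hdc)
      (C := fun u => ∃ w : ↥(centralizer ({t} : Set ↥MonsterX.InstData.M.G)),
        IsConj MonsterX.KDone.K.z (w : ↥MonsterX.InstData.M.G) ∧ q w = u) (fun u hu => ?_)
      (fun h1 h2 => hfive hI hE hx hc hm F h1 h2)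
    rcases hfr u hu with h1 | ⟨w, hw, hqw, -⟩
    · exact Or.inl h1
    · exact Or.inr ⟨w, hw, hqw⟩

end Cfsg.Agent.H182.RG.BAsm
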