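import Cfsg.Agent.H705.OreB.BInvFive
import Cfsg.Agent.H182.RG.BFive

/-!
# S3509, row B: the two types of elements of order 5 (helper182)

`cases_five` : the lift to the Monster of an element of order 5 of the Baby Monster has `C(a)/⟨a⟩ ≅ HN` or a conjugate of it
generates the same subgroup as an element of `C(z)` of fixed rank 0.
-/

set_option autoImplicit false
set_option maxRecDepth 100000

namespace Cfsg.Agent.H182.RG.BFive

open Cfsg Cfsg.Agent Cfsg.Agent.MonsterX Cfsg.Agent.MonsterX.InstData Cfsg.Agent.MonsterX.MainPack Cfsg.Agent.MonsterU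
open Cfsg.Agent.MonsterP Cfsg.Agent.MonsterN Cfsg.Agent.LThreeMB
open Cfsg.Agent.MonsterU.Ch
open Subgroup (centralizer mem_centralizer_singleton_iff center zpowers)
open Cfsg.Agent.H979.CovLift Cfsg.Agent.H979.OddB

universe u

/-- **the two types of elements of order 5** -/
theorem cases_five {L : Type u} [Group L] [Finite L] (h : Spor.IsoB L) {y : L} (hy : orderOf y = 5) :
    ∃ t : ↥InstData.M.G, LThreeB.Row.TA t ∧
      Nat.card ↥(center ↥(centralizer ({t} : Set ↥InstData.M.G))) = 2 ∧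
      ∃ (e : ↥(centralizer ({t} : Set ↥InstData.M.G)) ⧸ center ↥(centralizer ({t} : Set ↥InstData.M.G)) ≃* L)
        (a : ↥(centralizer ({t} : Set ↥InstData.M.G))), orderOf a = 5 ∧ e (QuotientGroup.mk a) = y ∧
        (Spor.IsoHN (XX (a : ↥InstData.M.G)) ∨
          ∃ (x₀ : centralizer ({KDone.K.z} : Set ↥InstData.M.G)) (k : ↥InstData.M.G) (i : ℕ),
            orderOf x₀ = 5 ∧ fr (KChart.pi MFive.Row.hc x₀) = 1 ∧
              k * (a : ↥InstData.M.G) * k⁻¹ = (x₀ : ↥InstData.M.G) ^ i) := by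
  have hfin : Finite ↥InstData.M.G := MThirteen.Row.finite
  have hch := KChart.chart KDone.lft MFive.Row.hc
  obtain ⟨w, hw, hwy⟩ := H705.OreB.BInvFive.exists_inv h hy
  obtain ⟨t, ht, h2, ⟨e⟩⟩ := exists_cover h
  obtain ⟨a, ha, ha'⟩ := exists_lift h2 Nat.prime_five (by norm_num) (x := e.symm y) (by rw [MulEquiv.orderOf_eq, hy])
  have ha5 : a ^ 5 = 1 := by rw [← ha, pow_orderOf_eq_one]
  have h4 : 4 ∣ Nat.card ↥(centralizer ({(a : ↥InstData.M.G)} : Set ↥InstData.M.G)) :=
    four_dvd h2 e (by decide : Odd 5) ha5 hw (by rw [ha', e.apply_symm_apply, hwy])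
  have haM : orderOf (a : ↥InstData.M.G) = 5 := by rw [Subgroup.orderOf_coe, ha]
  have hex := (CpAutBFive.EvenRow.cases haM).resolve_right fun h => h h4
  exact ⟨t, ht, h2, e, a, ha, by rw [ha', e.apply_symm_apply],
    MFive.Row.cases_model CpAutBFive.Final.coFive (MFiveHN.Closed.hnEight hch) haM hex⟩

end Cfsg.Agent.H182.RG.BFive
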