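import Cfsg.Agent.H514.RC.BNum

/-!
# S3509, row B: commuting elements of large prime orders (helper182)

* `cent_dvd` : `|C(y)|` divides `5040 |y|` for `y` of prime order at least 11 in the Baby Monster;
* `prime_pair` : elements of different prime orders at least 11 do not commute;
* `not_125` : `125` does not divide `|C(y)|`.
-/

set_option autoImplicit false
set_option maxRecDepth 100000

namespace Cfsg.Agent.H182.RG.BPair

open Cfsg Cfsg.Agent
open Cfsg.Agent.H940.Eng (Base)
open Cfsg.Agent.H715.Mon.Cent Cfsg.Agent.H715.Mon.Grp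
open Cfsg.Agent.H241.Mon (Gam)
open Subgroup (centralizer)

universe u

theorem of_mon {L : Type u} [Group L] [Finite L] (h : Spor.IsoB L) {q c : ℕ} (hq : q.Prime) (h2 : q ≠ 2)
    (hc : ∀ x : Gam, orderOf x = q → Nat.card (centralizer ({x} : Set Gam)) ∣ c) {s : L} (hs : orderOf s = q) :
    Nat.card ↥(centralizer ({s} : Set L)) ∣ c := by
  obtain ⟨x, hx, hd⟩ := H715.Mon.RowB.exists_cent h hq h2 hs
  exact (Dvd.intro _ rfl).trans (hd.trans (hc x hx))

/-- **the centralizers of the elements of prime order at least 11** -/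
theorem cent_dvd {L : Type u} [Group L] [Finite L] (B : Base) (h : Spor.IsoB L) {y : L} (hp : (orderOf y).Prime)
    (h11 : 11 ≤ orderOf y) : Nat.card ↥(centralizer ({y} : Set L)) ∣ orderOf y * 5040 := by
  have hqd : orderOf y ∣ 4154781481226426191177580544000000 := by
    rw [← NotCT.Orders.b h]
    exact orderOf_dvd_natCard y
  rcases H705.OreB.Small.primes hp hqd with e | e | e | e | e | e | e | e | e | e | e
  · omega
  · omega
  · omega
  · omega
  · rw [(H705.TwoB.Eleven.struct11 B h e).1, e]
    norm_num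
  · rw [(H139.LD.struct13 h e).1, e]
    norm_num
  · rw [e]
    exact (of_mon h (c := 168 * 17) (by norm_num) (by norm_num)
      (fun y hy => Cfsg.Agent.H241.Mon.card_seventeen (three B) hy) e).trans (by norm_num)
  · rw [e]
    exact (of_mon h (c := 60 * 19) (by norm_num) (by norm_num)
      (fun y hy => dvd_of_eq (H715.Mon.Exact.card19' (sThree B) hy)) e).trans (by norm_num)
  · rw [H715.Mon.Exact.B.cent23 (sThree B) h e, e]
    norm_num
  · rw [e]
    exact (of_mon h (c := 6 * 31) (by norm_num) (by norm_num)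
      (fun y hy => dvd_of_eq (card31 (sThree B) hy)) e).trans (by norm_num)
  · rw [e]
    exact (of_mon h (c := 47 * 2) (by norm_num) (by norm_num)
      (fun y hy => dvd_of_eq (H436.MonLoc.card47 B.known hy)) e).trans (by norm_num)

/-- **elements of different prime orders at least 11 do not commute** -/
theorem prime_pair {L : Type u} [Group L] [Finite L] (B : Base) (h : Spor.IsoB L) {x y : L} (hp : (orderOf x).Prime)
    (h11 : 11 ≤ orderOf x) (hq : (orderOf y).Prime) (hq11 : 11 ≤ orderOf y) (hne : orderOf x ≠ orderOf y)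
    (hc : x * y = y * x) : False := by
  have h1 : orderOf y ∣ Nat.card ↥(centralizer ({x} : Set L)) := by
    have h2 : y ∈ centralizer ({x} : Set L) := Subgroup.mem_centralizer_singleton_iff.2 hc.symm
    have h3 := orderOf_dvd_natCard (⟨y, h2⟩ : centralizer ({x} : Set L))
    rwa [Subgroup.orderOf_mk] at h3
  rcases hq.dvd_mul.1 (h1.trans (cent_dvd B h hp h11)) with h2 | h2
  · exact hne ((Nat.prime_dvd_prime_iff_eq hq hp).1 h2).symm
  · have h3 : orderOf y ∣ Nat.factorial 7 := h2
    have := (hq.dvd_factorial).1 h3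
    omega

theorem not_125 {L : Type u} [Group L] [Finite L] (B : Base) (h : Spor.IsoB L) {y : L} (hp : (orderOf y).Prime)
    (h11 : 11 ≤ orderOf y) : ¬ 5 ^ 3 ∣ Nat.card ↥(centralizer ({y} : Set L)) := by
  intro h1
  have h2 : (5 ^ 3).Coprime (orderOf y) :=
    Nat.Coprime.pow_left 3 ((Nat.coprime_primes Nat.prime_five hp).2 (by omega))
  have h3 := h2.dvd_of_dvd_mul_left (h1.trans (cent_dvd B h hp h11))
  norm_num at h3

end Cfsg.Agent.H182.RG.BPair
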