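import Cfsg.Agent.H182.RG.LyA
import Cfsg.Agent.H873.RG.Defs
import Cfsg.Agent.H438.Fpr.LyC
import Cfsg.Agent.H511.Cyc.LyOrd
import Cfsg.Agent.H314.LyOrb.NSeven

/-!
# S3509, sporadic row `Ly` (helper182)

No two elements of different prime orders at least 5 commute, so a minimal cover has at most three members, of orders in
`{2}`, `{3}`, `{q}`, `q ≥ 5`.

* `{2, q}`, `{2, 3}` : `not_inv`;
* the member `y` of order 3 has centralizer `3.McL` : `not_tdata`;
* otherwise `{3, q}` : `y` commutes with a four-group `V`; the normal closure `W` of `u` in `C(y)` has odd order by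
  `not_inv`, so some `v ∈ V` commutes with an element `w ∈ W` of order `q` and `{y, w}` is a cover; `q = 5`, `w` is of 5-cycle
  type in `C(v) = 2.A₁₁`: `not_fv`;
* `{2, 3, q}` : the same with `v` the member of order 2.
-/

set_option autoImplicit false
set_option maxRecDepth 100000

namespace Cfsg.Agent.H182.RG.Ly

open Cfsg Subgroup MulAction Equiv Cfsg.Agent.H106.RC Cfsg.Agent.H867.RC Cfsg.Agent.SporRec.TwoAn
open Cfsg.Agent.TypeM.Two Cfsg.Agent.CpAutLy Cfsg.Agent.H582.Ly

theorem fin : Finite Spor.Ly := Cfsg.Agent.Ly.Setup.finite_ly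

theorem card : Nat.card Spor.Ly = 51765179004000000 := Cfsg.Agent.Ly.Setup.card_ly

/-- the centralizers of the elements of prime order at least 7 -/
theorem cdvd {x : Spor.Ly} {p : ℕ} (hp : p.Prime) (hx : orderOf x = p) (h7 : 7 ≤ p) :
    ∃ m, Nat.card (centralizer ({x} : Set Spor.Ly)) ∣ m ∧ ((p = 7 ∧ m = 1008) ∨ (p = 11 ∧ m = 66) ∨ (p = 31 ∧ m = 93) ∨
      (p = 37 ∧ m = 333) ∨ (p = 67 ∧ m = 67)) := by
  have := fin
  rcases prime_cases card hp (by rw [← hx]; exact orderOf_dvd_natCard x) with h | h | h | h | h | h | h | h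
  · omega
  · omega
  · omega
  · subst h
    refine ⟨1008, ?_, Or.inl ⟨rfl, rfl⟩⟩
    rw [← Cfsg.Agent.H314.LyOrb.card_normalizer_seven hx]
    refine card_dvd_of_le ?_
    rw [← centralizer_closure, ← zpowers_eq_closure]
    exact centralizer_le_normalizer _
  · subst h
    exact ⟨66, Cfsg.Agent.H438.Fpr.Ly.cent11 hx, Or.inr (Or.inl ⟨rfl, rfl⟩)⟩
  · subst h
    exact ⟨93, (Cfsg.Agent.H511.Cyc.Ly.dat31 hx).1, Or.inr (Or.inr (Or.inl ⟨rfl, rfl⟩))⟩
  · subst h
    exact ⟨333, (Cfsg.Agent.H511.Cyc.Ly.dat37 hx).1, Or.inr (Or.inr (Or.inr (Or.inl ⟨rfl, rfl⟩)))⟩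
  · subst h
    exact ⟨67, by rw [(Cfsg.Agent.H511.Cyc.Ly.dat67 hx).1], Or.inr (Or.inr (Or.inr (Or.inr ⟨rfl, rfl⟩)))⟩

theorem not_adj_aux {x y : Spor.Ly} {p q : ℕ} (hp : p.Prime) (hq : q.Prime) (hx : orderOf x = p) (hy : orderOf y = q)
    (h5 : 7 ≤ p) (h5' : 5 ≤ q) (hne : p ≠ q) (hxy : y * x = x * y) : False := by
  have := fin
  obtain ⟨m, h1, h2⟩ := cdvd hp hx h5
  have h3 : q ∣ m := by
    have h4 := (centralizer ({x} : Set Spor.Ly)).orderOf_dvd_natCard (mem_centralizer_singleton_iff.2 hxy)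
    rw [hy] at h4
    exact h4.trans h1
  rcases prime_cases card hq (by rw [← hy]; exact orderOf_dvd_natCard y) with h | h | h | h | h | h | h | h <;>
    subst h <;> rcases h2 with ⟨rfl, rfl⟩ | ⟨rfl, rfl⟩ | ⟨rfl, rfl⟩ | ⟨rfl, rfl⟩ | ⟨rfl, rfl⟩ <;> omega

/-- elements of different prime orders at least 5 do not commute -/
theorem not_adj {x y : Spor.Ly} {p q : ℕ} (hp : p.Prime) (hq : q.Prime) (hx : orderOf x = p) (hy : orderOf y = q)
    (h5 : 5 ≤ p) (h5' : 5 ≤ q) (hne : p ≠ q) (hxy : x * y = y * x) : False := by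
  have h6 : p ≠ 6 := fun h => by rw [h] at hp; exact absurd hp (by norm_num)
  have h6' : q ≠ 6 := fun h => by rw [h] at hq; exact absurd hq (by norm_num)
  rcases Nat.lt_or_ge p 7 with h | h
  · exact not_adj_aux hq hp hy hx (by omega) h5 (Ne.symm hne) hxy
  · exact not_adj_aux hp hq hx hy h h5' hne hxy.symm

/-- five is the only prime `≥ 5` dividing the order of `C(y) ∩ C(t)` for `y` not of type `3` -/
theorem five_of_dvd {q : ℕ} (hq : q.Prime) (hqG : q ∣ 51765179004000000) (h5 : 5 ≤ q) {n : ℕ} (hn : n = 2160 ∨ n = 324)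
    (hd : q ∣ n) : q = 5 := by
  rcases prime_cases card hq (by rw [card]; exact hqG) with h | h | h | h | h | h | h | h <;> subst h <;>
    rcases hn with rfl | rfl <;> omega

/-- an element of order 5 commuting with `t` and with an element of order 3 of `C(t)` is of type `5` -/
theorem fv_of_comm (L : MT 11 Spor.Ly) {w y : Spor.Ly} (hw : orderOf w = 5) (hwt : w * L.t = L.t * w)
    (hy : orderOf y = 3) (hyt : y * L.t = L.t * y) (hwy : w * y = y * w) : ∃ K S : Subgroup Spor.Ly, Fv L.t w K S := by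
  have := fin
  have hf5 : Fact (Nat.Prime 5) := ⟨Nat.prime_five⟩
  set w' : centralizer ({L.t} : Set Spor.Ly) := ⟨w, mem_centralizer_singleton_iff.2 hwt⟩ with hw'
  set y' : centralizer ({L.t} : Set Spor.Ly) := ⟨y, mem_centralizer_singleton_iff.2 hyt⟩ with hy'
  have ow : orderOf (L.K.π w') = 5 := Cfsg.Agent.H438.Fpr.Ly.pi_order L Nat.prime_five (by norm_num)
    ((Subgroup.orderOf_mk w _).trans hw)
  have oy : orderOf (L.K.π y') = 3 := Cfsg.Agent.H438.Fpr.Ly.pi_order L Nat.prime_three (by norm_num)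
    ((Subgroup.orderOf_mk y _).trans hy)
  have hct := Perm.cycleType_of_pow_prime_eq_one (σ := L.K.π w') (p := 5) (by rw [← ow, pow_orderOf_eq_one])
  have h2 : (L.K.π w').cycleType.sum ≤ 11 := by
    rw [(L.K.π w').sum_cycleType]
    exact (Finset.card_le_univ _).trans (by simp)
  rw [hct, Multiset.sum_replicate, smul_eq_mul] at h2
  have h3 : (L.K.π w').cycleType.card ≠ 0 := by
    intro h4
    rw [Multiset.card_eq_zero, Perm.cycleType_eq_zero] at h4
    rw [h4, orderOf_one] at ow
    norm_num at ow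
  have h4 : (L.K.π w').cycleType.card ≠ 2 := by
    intro h5
    rw [h5] at hct
    have h6 : L.K.π y' ∈ centralizer ({L.K.π w'} : Set (Perm (Fin 11))) := by
      rw [mem_centralizer_singleton_iff, ← map_mul, ← map_mul]
      congr 1
      exact Subtype.ext hwy.symm
    have h7 := (centralizer ({L.K.π w'} : Set (Perm (Fin 11)))).orderOf_dvd_natCard h6
    rw [oy, Perm.nat_card_centralizer, hct] at h7
    revert h7
    decide
  have h5 : (L.K.π w').cycleType.card = 1 := by omega
  rw [h5] at hct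
  exact fv_of_type L (by rw [← hw]; exact pow_orderOf_eq_one w) hwt hct

/-- **no cover `{y, u}` with `y` of order 3, not conjugate to `x₀`** -/
theorem not_three {Ω : Type*} [MulAction Spor.Ly Ω] [Nonempty Ω] {N : Subgroup Spor.Ly} (hE : Env Spor.Ly Ω N)
    (L : MT 11 Spor.Ly) {x₀ : Spor.Ly} (h₀ : TData x₀) {y u : Spor.Ly} {q : ℕ} (hq : q.Prime) (h5 : 5 ≤ q)
    (hy : orderOf y = 3) (hu : orderOf u = q) (hne : ¬ ∃ g : Spor.Ly, g * y * g⁻¹ = x₀) (huy : u * y = y * u)
    (hc : ∀ ω : Ω, y • ω = ω ∨ u • ω = ω) : False := by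
  have hfin := fin
  have hf2 : Fact (Nat.Prime 2) := ⟨Nat.prime_two⟩
  have hy1 : y ≠ 1 := fun h => by
    rw [h, orderOf_one] at hy
    norm_num at hy
  have key : ∀ w ∈ Wn y u, ∀ ω : Ω, y • ω = ω ∨ w • ω = ω := fun w hw => pair_mv hc hw
  have hWle : Wn y u ≤ centralizer ({y} : Set Spor.Ly) := Wn_le huy
  rcases Nat.even_or_odd (Nat.card (Wn y u)) with hev | hodd
  · obtain ⟨⟨w, hw⟩, hwo⟩ := exists_prime_orderOf_dvd_card' (G := Wn y u) 2 (even_iff_two_dvd.1 hev)
    rw [Subgroup.orderOf_mk] at hwo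
    exact not_inv hE L hwo hy1 (mem_centralizer_singleton_iff.1 (hWle hw)).symm fun ω => (key w hw ω).symm
  · obtain ⟨s, w, hs, hw, hsw, hsy, hwy, hws⟩ := exists_four L card h₀ hy hne
    obtain ⟨s1, s2⟩ := MT.sq_of_orderOf hs
    obtain ⟨w1, w2⟩ := MT.sq_of_orderOf hw
    obtain ⟨-, sw2⟩ := MT.sq_of_orderOf hsw
    let W' : Subgroup (centralizer ({y} : Set Spor.Ly)) := (Wn y u).subgroupOf (centralizer ({y} : Set Spor.Ly))
    have hn : W'.Normal := ⟨fun n hn g => conj_mem_Wn (mem_centralizer_singleton_iff.1 g.2) hn⟩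
    have hcard : Nat.card W' = Nat.card (Wn y u) := Nat.card_congr (subgroupOfEquivOfLe hWle).toEquiv
    have hqd : q ∣ Nat.card W' := by
      rw [hcard, ← hu]
      exact (Wn y u).orderOf_dvd_natCard (self_mem_Wn y u)
    obtain ⟨v, w', hv, hv1, hw', hwo, hwv⟩ := exists_comm hq W' (by rw [hcard]; exact hodd) hqd
      (a := ⟨s, mem_centralizer_singleton_iff.2 hsy⟩) (b := ⟨w, mem_centralizer_singleton_iff.2 hwy⟩)
      (Subtype.ext s1) (Subtype.ext w1) (Subtype.ext hws.symm) (fun h => s2 (congrArg Subtype.val h))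
      (fun h => w2 (congrArg Subtype.val h)) (fun h => sw2 (congrArg Subtype.val h))
    obtain ⟨L', hL'⟩ := L.exists_rebase (s := (v : Spor.Ly)) (congrArg Subtype.val hv) fun h => hv1 (Subtype.ext h)
    have hvy : (v : Spor.Ly) * y = y * v := mem_centralizer_singleton_iff.1 v.2
    have hwy' : (w' : Spor.Ly) * y = y * w' := mem_centralizer_singleton_iff.1 w'.2
    have hwv' : (w' : Spor.Ly) * v = v * w' := congrArg Subtype.val hwv
    have hwo' : orderOf (w' : Spor.Ly) = q := by rw [Subgroup.orderOf_coe, hwo]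
    rw [← hL'] at hvy hwv'
    have hqn : q ∣ Types.nn y L'.t := by
      rw [← hwo']
      exact (centralizer ({y} : Set Spor.Ly) ⊓ centralizer ({L'.t} : Set Spor.Ly)).orderOf_dvd_natCard
        ⟨mem_centralizer_singleton_iff.2 hwy', mem_centralizer_singleton_iff.2 hwv'⟩
    have hnn : Types.nn y L'.t = 2160 ∨ Types.nn y L'.t = 324 := by
      obtain ⟨s₀, h1, h2, h3⟩ := h₀.nn
      rcases Types.nn_cases L' hy L'.orderOf_t hvy with h | h
      · exact absurd (Types.exists_conj_of_nn L' hy L'.orderOf_t hvy h h₀.ord h1 h2 h3) hne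
      · exact h
    have hq5 : q = 5 := five_of_dvd hq (by rw [← card, ← hu]; exact orderOf_dvd_natCard u) h5 hnn hqn
    subst hq5
    obtain ⟨K, S, hFv⟩ := fv_of_comm L' hwo' hwv' hy hvy.symm hwy'
    have hPF : PF (![y, (w' : Spor.Ly)]) (![3, 5] : Fin 2 → ℕ) :=
      { prime := by
          intro i
          fin_cases i
          · exact Nat.prime_three
          · exact Nat.prime_five
        inj := by decide
        pow := by
          intro i
          fin_cases i
          · show y ^ 3 = 1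
            rw [← hy, pow_orderOf_eq_one]
          · show (w' : Spor.Ly) ^ 5 = 1
            rw [← hwo', pow_orderOf_eq_one]
        ne := by
          intro i
          fin_cases i
          · exact hy1
          · show (w' : Spor.Ly) ≠ 1
            intro h
            rw [h, orderOf_one] at hwo'
            norm_num at hwo'
        comm := by
          intro i j
          fin_cases i <;> fin_cases j
          · rfl
          · exact hwy'.symm
          · exact hwy'
          · rfl }
    refine not_fv hE hPF (fun ω => ?_) (i₀ := 1) hFv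
    rcases key w' hw' ω with h | h
    · exact ⟨0, h⟩
    · exact ⟨1, h⟩

/-- **`Ly`**, given the regular cycles of the McLaughlin group -/
theorem noCov_ly (hM : ∀ (T : Type) [Group T] [Finite T], Spor.IsoMcL T → RC T) : NoCov Spor.Ly := by
  have hfin := fin
  refine noCov_of_inner (fun α => ?_) ?_
  · obtain ⟨s, hs⟩ := Cfsg.Agent.TypeM.OutLyFin.inner_ly α
    exact ⟨s, hs.symm⟩
  intro Ω _ _ _ hE ι _ x r hx hc _
  obtain ⟨L⟩ := Cfsg.Agent.TypeM.FactsLy.exists_mt_ly
  obtain ⟨x₀, h₀⟩ := exists_tdata_ly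
  have ho : ∀ i, orderOf (x i) = r i := fun i =>
    have : Fact (r i).Prime := ⟨hx.prime i⟩
    orderOf_eq_prime (hx.pow i) (hx.ne i)
  have hadj : ∀ i j, 5 ≤ r i → 5 ≤ r j → i = j := by
    intro i j hi hj
    by_contra hne
    exact not_adj (hx.prime i) (hx.prime j) (ho i) (ho j) hi hj (fun h => hne (hx.inj h)) (hx.comm i j)
  have h235 : ∀ i, r i = 2 ∨ r i = 3 ∨ 5 ≤ r i := by
    intro i
    have h1 := (hx.prime i).two_le
    have h4 : r i ≠ 4 := fun h => by
      have h2 := hx.prime i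
      rw [h] at h2
      exact absurd h2 (by norm_num)
    omega
  by_cases h3 : ∃ i, r i = 3
  · obtain ⟨i3, h3⟩ := h3
    by_cases hcj : ∃ g : Spor.Ly, g * x i3 * g⁻¹ = x₀
    · obtain ⟨g, hg⟩ := hcj
      refine not_tdata hM hE hx hc (i₀ := i3) ?_
      have h1 := h₀.conj g⁻¹
      rw [← hg] at h1
      have e : g⁻¹ * (g * x i3 * g⁻¹) * g⁻¹⁻¹ = x i3 := by group
      rw [e] at h1
      exact h1
    by_cases h2 : ∃ i, r i = 2
    · obtain ⟨i2, h2⟩ := h2
      by_cases hq : ∃ i, 5 ≤ r i
      · obtain ⟨iq, hq⟩ := hq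
        obtain ⟨t1, t2⟩ := MT.sq_of_orderOf ((ho i2).trans h2)
        obtain ⟨L', hL'⟩ := L.exists_rebase t1 t2
        have hty : L'.t * x i3 = x i3 * L'.t := by rw [hL']; exact hx.comm i2 i3
        have hwt : x iq * L'.t = L'.t * x iq := by rw [hL']; exact hx.comm iq i2
        have hnn : Types.nn (x i3) L'.t = 2160 ∨ Types.nn (x i3) L'.t = 324 := by
          obtain ⟨s₀, h4, h5, h6⟩ := h₀.nn
          rcases Types.nn_cases L' ((ho i3).trans h3) L'.orderOf_t hty with h | h
          · exact absurd (Types.exists_conj_of_nn L' ((ho i3).trans h3) L'.orderOf_t hty h h₀.ord h4 h5 h6) hcj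
          · exact h
        have hqn : r iq ∣ Types.nn (x i3) L'.t := by
          rw [← ho iq]
          exact (centralizer ({x i3} : Set Spor.Ly) ⊓ centralizer ({L'.t} : Set Spor.Ly)).orderOf_dvd_natCard
            ⟨mem_centralizer_singleton_iff.2 (hx.comm iq i3), mem_centralizer_singleton_iff.2 hwt⟩
        have hq5 : r iq = 5 := five_of_dvd (hx.prime iq) (by rw [← card, ← ho iq]; exact orderOf_dvd_natCard _) hq
          hnn hqn
        obtain ⟨K, S, hFv⟩ := fv_of_comm L' ((ho iq).trans hq5) hwt ((ho i3).trans h3) hty.symm (hx.comm iq i3)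
        exact not_fv hE hx hc hFv
      · refine not_inv hE L (t := x i2) (u := x i3) ((ho i2).trans h2) (hx.ne i3) (hx.comm i3 i2) fun ω => ?_
        obtain ⟨i, hi⟩ := hc ω
        rcases h235 i with h | h | h
        · rw [hx.inj (h.trans h2.symm)] at hi
          exact Or.inl hi
        · rw [hx.inj (h.trans h3.symm)] at hi
          exact Or.inr hi
        · exact absurd ⟨i, h⟩ hq
    · obtain ⟨j, hj⟩ := hc.two hE hx.ne i3
      have hj5 : 5 ≤ r j := by
        rcases h235 j with h | h | h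
        · exact absurd ⟨j, h⟩ h2
        · exact absurd (hx.inj (h.trans h3.symm)) hj
        · exact h
      refine not_three hE L h₀ (hx.prime j) hj5 ((ho i3).trans h3) (ho j) hcj (hx.comm j i3) fun ω => ?_
      obtain ⟨i, hi⟩ := hc ω
      rcases h235 i with h | h | h
      · exact absurd ⟨i, h⟩ h2
      · rw [hx.inj (h.trans h3.symm)] at hi
        exact Or.inl hi
      · rw [hadj i j h hj5] at hi
        exact Or.inr hi
  · by_cases h2 : ∃ i, r i = 2
    · obtain ⟨i2, h2⟩ := h2
      obtain ⟨j, hj⟩ := hc.two hE hx.ne i2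
      have hj5 : 5 ≤ r j := by
        rcases h235 j with h | h | h
        · exact absurd (hx.inj (h.trans h2.symm)) hj
        · exact absurd ⟨j, h⟩ h3
        · exact h
      refine not_inv hE L (t := x i2) (u := x j) ((ho i2).trans h2) (hx.ne j) (hx.comm j i2) fun ω => ?_
      obtain ⟨i, hi⟩ := hc ω
      rcases h235 i with h | h | h
      · rw [hx.inj (h.trans h2.symm)] at hi
        exact Or.inl hi
      · exact absurd ⟨i, h⟩ h3
      · rw [hadj i j h hj5] at hi
        exact Or.inr hi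
    · have h5 : ∀ i, 5 ≤ r i := fun i => by
        rcases h235 i with h | h | h
        · exact absurd ⟨i, h⟩ h2
        · exact absurd ⟨i, h⟩ h3
        · exact h
      obtain ⟨ω⟩ := (inferInstance : Nonempty Ω)
      obtain ⟨i, -⟩ := hc ω
      obtain ⟨j, hj⟩ := hc.two hE hx.ne i
      exact hj (hadj j i (h5 j) (h5 i))

/-- **`Ly`**, given the regular cycles of the McLaughlin group -/
theorem rc_ly_of (hM : ∀ (T : Type) [Group T] [Finite T], Spor.IsoMcL T → RC T) {T : Type} [Group T] [Finite T]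
    (h : Spor.IsoLy T) : RC T := by
  obtain ⟨e⟩ := h
  have := fin
  have hs : IsSimpleGroup Spor.Ly := Cfsg.Agent.Ly.Setup.isSimple_ly
  refine RC.congr e.symm (rc_of_noCov hs ?_ (noCov_ly hM))
  intro hcm
  have h1 : Nat.Prime (Nat.card Spor.Ly) := by
    let _ : CommGroup Spor.Ly := { (inferInstance : Group Spor.Ly) with mul_comm := hcm.is_comm.comm }
    exact IsSimpleGroup.prime_card
  rw [card] at h1
  revert h1
  norm_num

/-- the McLaughlin group is not alternating -/
theorem nsa_mcl {T : Type*} [Group T] (h : Spor.IsoMcL T) : Cfsg.Agent.H873.RG.NSA T := by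
  obtain ⟨hf, hs, hcard, -⟩ := Cfsg.Agent.TypeM.FactsMcL.facts h
  refine ⟨hs, ?_, ?_⟩
  · intro hcm
    have h1 : Nat.Prime (Nat.card T) := by
      let _ : CommGroup T := { (inferInstance : Group T) with mul_comm := hcm.is_comm.comm }
      exact IsSimpleGroup.prime_card
    rw [hcard] at h1
    revert h1
    norm_num
  · rintro ⟨n, hn, ⟨e⟩⟩
    have h1 := Nat.card_congr e.toEquiv
    have : Nontrivial (Fin n) := Fin.nontrivial_iff_two_le.2 (by omega)
    rw [hcard, nat_card_alternatingGroup, Nat.card_fin] at h1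
    have h2 : Nat.factorial n = 2 * 898128000 := by
      have h3 : 2 ∣ Nat.factorial n := Nat.dvd_factorial (by norm_num) (by omega)
      omega
    rcases Nat.lt_or_ge n 13 with h3 | h3
    · have h4 := Nat.factorial_le (show n ≤ 12 by omega)
      rw [h2] at h4
      revert h4
      decide
    · have h4 := Nat.factorial_le h3
      rw [h2] at h4
      revert h4
      decide

/-- **S3509, the row `Ly`** -/
theorem row_ly : Cfsg.Agent.H873.RG.RowX (fun S _ => Spor.IsoLy S) := by
  intro S _ _ _ h hI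
  refine rc_ly_of (fun T _ _ hT => hI T (nsa_mcl hT) ?_) h
  obtain ⟨-, -, h1, -⟩ := Cfsg.Agent.TypeM.FactsMcL.facts hT
  obtain ⟨e⟩ := h
  rw [h1, Nat.card_congr e.toEquiv, card]
  norm_num

end Cfsg.Agent.H182.RG.Ly
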